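import Groth.Agent.S0590
import Groth.Agent.S0591
import Groth.Agent.S7382
import Groth.Agent.MorLib.DescendCI
import Groth.Agent.MorLib.Thick.Affine
import Groth.Agent.ChevAffine.Main
import Groth.Agent.H23.RedSub

/-!
# Chevalley's theorem without Noetherian hypotheses

A quasi-compact quasi-separated scheme with an integral surjection from an affine scheme is affine.
-/

set_option autoImplicit false
set_option linter.style.haveILetI false
set_option backward.isDefEq.respectTransparency.types false

universe u

open CategoryTheory Limits AlgebraicGeometry TopologicalSpace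

namespace Groth.Agent.LimChev

open Groth.Agent

/-- A surjective universally closed image of a separated scheme is separated. -/
theorem isSeparated_of_surjective {X S : Scheme.{u}} (f : X ⟶ S) [Surjective f] [UniversallyClosed f]
    [X.IsSeparated] : S.IsSeparated := by
  refine ⟨?_⟩
  have hcl : IsClosed (Set.range (pullback.diagonal (terminal.from S))) := by
    let m : pullback (terminal.from X) (terminal.from X) ⟶ pullback (terminal.from S) (terminal.from S) :=
      pullback.map _ _ _ _ f f (𝟙 _) (Subsingleton.elim _ _) (Subsingleton.elim _ _)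
    haveI : UniversallyClosed m :=
      MorphismProperty.pullbackMap (P := @UniversallyClosed) (i₁ := f) (i₂ := f) inferInstance inferInstance
        (Subsingleton.elim _ _) (Subsingleton.elim _ _)
    have hd : pullback.diagonal (terminal.from X) ≫ m = f ≫ pullback.diagonal (terminal.from S) := by
      apply pullback.hom_ext
      · erw [Category.assoc, pullback.lift_fst, pullback.diagonal_fst_assoc, Category.assoc, pullback.diagonal_fst,
          Category.comp_id]
      · erw [Category.assoc, pullback.lift_snd, pullback.diagonal_snd_assoc, Category.assoc, pullback.diagonal_snd,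
          Category.comp_id]
    haveI : IsSeparated (terminal.from X) := Scheme.IsSeparated.isSeparated_terminal_from
    have := m.isClosedMap _ (pullback.diagonal (terminal.from X)).isClosedEmbedding.isClosed_range
    rw [← Set.range_comp] at this
    have e1 : Set.range (fun x => m (pullback.diagonal (terminal.from X) x)) =
        Set.range (fun x => pullback.diagonal (terminal.from S) (f x)) := by
      congr 1
      funext x
      exact congrArg (fun g => g x) hd
    have e2 : Set.range (fun x => pullback.diagonal (terminal.from S) (f x)) =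
        Set.range (pullback.diagonal (terminal.from S)) := f.surjective.range_comp _
    rw [← e2, ← e1]
    exact this
  exact ⟨(isClosedImmersion_iff _).mpr ⟨inferInstance, ⟨(pullback.diagonal (terminal.from S)).isEmbedding, hcl⟩⟩⟩

/-- The finite, finitely presented case. -/
theorem isAffine_of_finite_fp {X S : Scheme.{u}} [CompactSpace S] [QuasiSeparatedSpace S] (f : X ⟶ S)
    [IsFinite f] [LocallyOfFinitePresentation f] [Surjective f] [IsAffine X] : IsAffine S := by
  obtain ⟨I, hI, hdir, hne, D, c, hc, hD, hD', ⟨e⟩⟩ := S0590.result S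
  haveI : ∀ {i j : Iᵒᵖ} (a : i ⟶ j), IsAffineHom (D.map a) := fun {i j} a => hD i j a
  haveI : ∀ i, CompactSpace (D.obj i) := fun i => (hD' i).1
  haveI : ∀ i, IsLocallyNoetherian (D.obj i) := fun i => by
    haveI := (hD' i).2
    haveI : IsNoetherianRing (CommRingCat.of (ULift.{u} ℤ)) := isNoetherianRing_of_ringEquiv ℤ ULift.ringEquiv.symm
    exact LocallyOfFiniteType.isLocallyNoetherian (IsTerminal.from specULiftZIsTerminal (D.obj i))
  haveI : ∀ i, IsNoetherian (D.obj i) := fun i => {}
  haveI : ∀ i, QuasiSeparatedSpace (D.obj i) := fun i => inferInstance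
  let f' : X ⟶ c.pt := f ≫ e.inv
  obtain ⟨i, Xi, fi, g, hfp, hqc, hqs, hpb⟩ := S0591.result D c hc X f'
  have hsnd : IsFinite (pullback.snd fi (c.π.app i)) :=
    MorLib.Desc.of_two @IsFinite hpb (IsPullback.of_hasPullback _ _) (inferInstanceAs (IsFinite (f ≫ e.inv)))
  obtain ⟨j, φ, hfin⟩ := MorLib.Desc.descend D c hc i (P := @IsFinite) (Q := @LocallyOfFiniteType)
    MorLib.Desc.core_isFinite fi inferInstance hsnd
  -- some stage of the base change is affine
  haveI : CompactSpace Xi := QuasiCompact.compactSpace_of_compactSpace fi
  haveI : QuasiSeparatedSpace Xi := quasiSeparatedSpace_of_quasiSeparated fi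
  let C := MorLib.BC.cone D fi hpb
  haveI : IsAffine C.pt := ‹IsAffine X›
  haveI : ∀ {a b : Over i} (t : a ⟶ b), IsAffineHom ((MorLib.BC.diag D fi).map t) := fun t =>
    MorLib.BC.isAffineHom_map D fi t
  obtain ⟨k, hk⟩ := Scheme.exists_isAffine_of_isLimit (MorLib.BC.diag D fi) C (MorLib.BC.isLimitCone D fi hpb hc)
  -- a common refinement
  obtain ⟨l, a, b, hab⟩ : ∃ (l : Over i) (a : l ⟶ k) (b : l ⟶ Over.mk φ), True :=
    ⟨_, IsCofiltered.minToLeft k (Over.mk φ), IsCofiltered.minToRight k (Over.mk φ), trivial⟩
  haveI : IsAffine ((MorLib.BC.diag D fi).obj k) := hk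
  haveI : IsAffine ((MorLib.BC.diag D fi).obj l) := isAffine_of_isAffineHom ((MorLib.BC.diag D fi).map a)
  haveI hl : IsFinite (pullback.snd fi (D.map l.hom)) := by
    refine MorphismProperty.of_isPullback (P := @IsFinite) (MorLib.BC.isPullback_map D fi b) ?_
    exact hfin
  let q : (MorLib.BC.diag D fi).obj l ⟶ D.obj l.left := pullback.snd fi (D.map l.hom)
  haveI : IsFinite q := hl
  -- the image is affine
  let Z : Closeds (D.obj l.left) := ⟨Set.range q, q.isClosedMap.isClosed_range⟩
  let J := Scheme.IdealSheafData.vanishingIdeal Z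
  have hJr : Set.range J.subschemeι = Set.range q := by
    rw [Scheme.IdealSheafData.range_subschemeι, Scheme.IdealSheafData.coe_support_vanishingIdeal]
    rfl
  let q' : pullback q J.subschemeι ⟶ J.subscheme := pullback.snd q J.subschemeι
  haveI : IsFinite q' := MorphismProperty.pullback_snd _ _ inferInstance
  haveI : Surjective q' := ⟨fun z => by
    have hz : z ∈ Set.range q' ↔ J.subschemeι z ∈ Set.range q := by
      rw [Scheme.Pullback.range_snd]; rfl
    exact hz.2 (hJr ▸ ⟨z, rfl⟩)⟩
  haveI : IsAffine (pullback q J.subschemeι) := isAffine_of_isAffineHom (pullback.fst q J.subschemeι)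
  haveI : IsLocallyNoetherian J.subscheme := LocallyOfFiniteType.isLocallyNoetherian J.subschemeι
  haveI : CompactSpace J.subscheme := QuasiCompact.compactSpace_of_compactSpace J.subschemeι
  haveI : IsNoetherian J.subscheme := {}
  haveI : IsAffine J.subscheme := ChevAffine.isAffine_of_finite_surjective q'
  -- the base change to `S` is a surjective closed immersion
  haveI : IsAffineHom (c.π.app l.left) := isAffineHom_π_app D c hc l.left
  haveI : IsAffine (pullback (c.π.app l.left) J.subschemeι) :=
    isAffine_of_isAffineHom (pullback.snd (c.π.app l.left) J.subschemeι)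
  haveI : IsClosedImmersion (pullback.fst (c.π.app l.left) J.subschemeι) :=
    MorphismProperty.pullback_fst _ _ inferInstance
  haveI : IsAffine c.pt := MorLib.Thick.isAffine_of_thickening (pullback.fst (c.π.app l.left) J.subschemeι)
    fun y => by
      have hy : y ∈ Set.range (pullback.fst (c.π.app l.left) J.subschemeι) := by
        rw [Scheme.Pullback.range_fst]
        show c.π.app l.left y ∈ Set.range J.subschemeι
        rw [hJr]
        obtain ⟨x, hx⟩ : ∃ x, f' x = y := by
          haveI : Surjective f' := inferInstanceAs (Surjective (f ≫ e.inv))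
          exact f'.surjective y
        refine ⟨MorLib.BC.proj D fi hpb l x, ?_⟩
        show (MorLib.BC.proj D fi hpb l ≫ q) x = _
        rw [MorLib.BC.proj_snd, ← hx]
        rfl
      exact hy
  exact IsAffine.of_isIso e.inv

theorem qcqs_of_isFinite {T S : Scheme.{u}} [CompactSpace S] [QuasiSeparatedSpace S] (g : T ⟶ S) (h : IsFinite g) :
    CompactSpace T ∧ QuasiSeparatedSpace T :=
  ⟨QuasiCompact.compactSpace_of_compactSpace g, quasiSeparatedSpace_of_quasiSeparated g⟩

/-- Chevalley's theorem: a universally closed surjective image of an affine scheme is affine. -/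
theorem isAffine_of_surjective {X S : Scheme.{u}} (f : X ⟶ S) [IsAffine X] [Surjective f] [UniversallyClosed f] :
    IsAffine S := by
  haveI : CompactSpace S := ⟨by
    rw [← f.surjective.range_eq]
    exact isCompact_range f.continuous⟩
  haveI := isSeparated_of_surjective f
  haveI : IsSeparated (terminal.from S) := Scheme.IsSeparated.isSeparated_terminal_from
  haveI : IsAffineHom (f ≫ terminal.from S) := inferInstance
  haveI : IsAffineHom f := IsAffineHom.of_comp f (terminal.from S)
  haveI : IsIntegralHom f := IsIntegralHom.iff_universallyClosed_and_isAffineHom.2 ⟨inferInstance, inferInstance⟩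
  obtain ⟨I, hI, hdir, hne, D, c, hc, hD, ⟨e⟩⟩ := S7382.result f
  haveI hfinI : ∀ i, IsFinite (D.obj i).hom := fun i => (hD i).1
  let D' := D ⋙ Over.forget S
  have hc' : IsLimit ((Over.forget S).mapCone c) := isLimitOfPreserves (Over.forget S) hc
  haveI : ∀ {i j : Iᵒᵖ} (a : i ⟶ j), IsAffineHom (D'.map a) := fun {i j} a => by
    haveI : IsAffineHom ((D.map a).left ≫ (D.obj j).hom) := by rw [Over.w]; infer_instance
    exact IsAffineHom.of_comp (D.map a).left (D.obj j).hom
  haveI : ∀ i, CompactSpace (D'.obj i) := fun i => (qcqs_of_isFinite (D.obj i).hom (hfinI i)).1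
  haveI : ∀ i, QuasiSeparatedSpace (D'.obj i) := fun i => (qcqs_of_isFinite (D.obj i).hom (hfinI i)).2
  haveI : IsAffine ((Over.forget S).mapCone c).pt :=
    haveI : IsAffine ((Over.forget S).obj (Over.mk f)) := ‹IsAffine X›
    IsAffine.of_isIso ((Over.forget S).map e.hom)
  obtain ⟨i, hi⟩ := Scheme.exists_isAffine_of_isLimit D' ((Over.forget S).mapCone c) hc'
  haveI : IsAffine (D.obj i).left := hi
  haveI := (hD i).2
  haveI : Surjective (D.obj i).hom := ⟨fun s => by
    obtain ⟨x, hx⟩ := f.surjective s
    refine ⟨((c.π.app i).left) (e.inv.left x), ?_⟩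
    show ((e.inv.left ≫ (c.π.app i).left) ≫ (D.obj i).hom) x = s
    rw [Category.assoc, Over.w (c.π.app i)]
    exact (congrArg (fun m => m x) (show e.inv.left ≫ c.pt.hom = f from Over.w e.inv)).trans hx⟩
  let g : (D.obj i).left ⟶ S := (D.obj i).hom
  haveI : IsFinite g := hfinI i
  haveI : LocallyOfFinitePresentation g := (hD i).2
  haveI : Surjective g := ‹Surjective (D.obj i).hom›
  exact isAffine_of_finite_fp g

end Groth.Agent.LimChev
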